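import Groth.Prelude.Def_HopfRep
import Mathlib.RingTheory.Flat.Basic
import Mathlib.LinearAlgebra.Contraction
import Mathlib.LinearAlgebra.TensorProduct.RightExactness
import Mathlib.LinearAlgebra.Matrix.Determinant.Basic
import Mathlib.LinearAlgebra.StdBasis
import Mathlib.Algebra.Module.FinitePresentation
import Mathlib.RingTheory.Noetherian.Basic

/-!
# Comodules over a Noetherian base ring

* finitely generated submodules lie in finitely generated subcomodules (flat coalgebra);
* subcomodules as comodules;
* a finite projective comodule gives a matrix corepresentation;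
* the coaction on the dual of a finitely presented subcomodule.
-/

universe u v w

namespace Groth.Agent.ComodRing

open TensorProduct HopfRep CoalgebraStruct

variable {R : Type u} [CommRing R]

/-- Contraction of the left factor. -/
noncomputable def crd {P : Type*} [AddCommGroup P] [Module R P] {N : Type*} [AddCommGroup N]
    [Module R N] (ξ : P →ₗ[R] R) : P ⊗[R] N →ₗ[R] N :=
  (TensorProduct.lid R N).toLinearMap ∘ₗ ξ.rTensor N

@[simp] theorem crd_tmul {P : Type*} [AddCommGroup P] [Module R P] {N : Type*} [AddCommGroup N]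
    [Module R N] (ξ : P →ₗ[R] R) (p : P) (n : N) : crd ξ (p ⊗ₜ[R] n) = ξ p • n := by
  simp [crd]

theorem crd_lTensor {P : Type*} [AddCommGroup P] [Module R P] {N : Type*} [AddCommGroup N]
    [Module R N] {N' : Type*} [AddCommGroup N'] [Module R N'] (ξ : P →ₗ[R] R) (f : N →ₗ[R] N')
    (x : P ⊗[R] N) : crd ξ (f.lTensor P x) = f (crd ξ x) := by
  induction x using TensorProduct.induction_on with
  | zero => simp
  | tmul a b => simp
  | add a b ha hb => simp [ha, hb]

theorem crd_rTensor {P : Type*} [AddCommGroup P] [Module R P] {P' : Type*} [AddCommGroup P']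
    [Module R P'] {N : Type*} [AddCommGroup N] [Module R N] (ξ : P' →ₗ[R] R) (f : P →ₗ[R] P')
    (x : P ⊗[R] N) : crd ξ (f.rTensor N x) = crd (ξ ∘ₗ f) x := by
  induction x using TensorProduct.induction_on with
  | zero => simp
  | tmul a b => simp
  | add a b ha hb => simp [ha, hb]

theorem sum_tmul_crd {P : Type*} [AddCommGroup P] [Module R P] {N : Type*} [AddCommGroup N]
    [Module R N] {ι : Type*} [Fintype ι] (e : Module.Basis ι R P) (x : P ⊗[R] N) :
    ∑ i, e i ⊗ₜ[R] crd (e.coord i) x = x := by
  induction x using TensorProduct.induction_on with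
  | zero => simp
  | tmul a b => simp [smul_tmul', ← TensorProduct.sum_tmul, e.sum_repr]
  | add a b ha hb => simp [TensorProduct.tmul_add, Finset.sum_add_distrib, ha, hb]

theorem crd_sum_basis {P : Type*} [AddCommGroup P] [Module R P] {N : Type*} [AddCommGroup N]
    [Module R N] {ι : Type*} [Fintype ι] [DecidableEq ι] (e : Module.Basis ι R P) (n : ι → N) (i : ι) :
    crd (e.coord i) (∑ l, e l ⊗ₜ[R] n l) = n i := by
  simp [map_sum, Finsupp.single_apply]

theorem dualTensorHom_lTensor_apply {W : Type*} [AddCommGroup W] [Module R W] {C : Type*}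
    [AddCommGroup C] [Module R C] {N : Type*} [AddCommGroup N] [Module R N] (f : C →ₗ[R] N)
    (x : Module.Dual R W ⊗[R] C) (w : W) :
    dualTensorHom R W N (f.lTensor _ x) w = f (dualTensorHom R W C x w) := by
  induction x using TensorProduct.induction_on with
  | zero => simp
  | tmul a b => simp
  | add a b ha hb => simp [ha, hb]

theorem assoc_rTensor_rTensor {P P' C C' : Type*} [AddCommGroup P] [Module R P] [AddCommGroup P']
    [Module R P'] [AddCommGroup C] [Module R C] [AddCommGroup C'] [Module R C'] (f : P →ₗ[R] P')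
    (y : (P ⊗[R] C) ⊗[R] C') :
    TensorProduct.assoc R P' C C' ((f.rTensor C).rTensor C' y) =
      f.rTensor (C ⊗[R] C') (TensorProduct.assoc R P C C' y) := by
  have h : (TensorProduct.assoc R P' C C').toLinearMap ∘ₗ (f.rTensor C).rTensor C' =
      f.rTensor (C ⊗[R] C') ∘ₗ (TensorProduct.assoc R P C C').toLinearMap := by
    ext p c c'
    simp
  exact LinearMap.congr_fun h y

/-- A coaction of `δ` with counit `ε`. -/
def IsCoaction {C : Type*} [AddCommGroup C] [Module R C] (δ : C →ₗ[R] C ⊗[R] C) (ε : C →ₗ[R] R)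
    {P : Type*} [AddCommGroup P] [Module R P] (Θ : P →ₗ[R] P ⊗[R] C) : Prop :=
  (∀ p, TensorProduct.assoc R P C C (Θ.rTensor C (Θ p)) = δ.lTensor P (Θ p)) ∧
    ∀ p, ε.lTensor P (Θ p) = p ⊗ₜ[R] (1 : R)

/-- The matrix of a coaction on a free module. -/
theorem exists_matrix_free {C : Type*} [AddCommGroup C] [Module R C]
    {δ : C →ₗ[R] C ⊗[R] C} {ε : C →ₗ[R] R}
    {P : Type*} [AddCommGroup P] [Module R P] {Θ : P →ₗ[R] P ⊗[R] C} (hΘ : IsCoaction δ ε Θ)
    {ι : Type*} [Fintype ι] [DecidableEq ι] (e : Module.Basis ι R P) :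
    (∀ i j, δ (crd (e.coord i) (Θ (e j))) =
      ∑ l, crd (e.coord i) (Θ (e l)) ⊗ₜ[R] crd (e.coord l) (Θ (e j))) ∧
    (∀ i j, ε (crd (e.coord i) (Θ (e j))) = if i = j then 1 else 0) := by
  refine ⟨fun i j => ?_, fun i j => ?_⟩
  · rw [← crd_lTensor, ← hΘ.1]
    conv_lhs => rw [← sum_tmul_crd e (Θ (e j))]
    simp only [map_sum, LinearMap.rTensor_tmul]
    refine Finset.sum_congr rfl fun l _ => ?_
    generalize crd (e.coord l) (Θ (e j)) = c
    generalize Θ (e l) = y
    induction y using TensorProduct.induction_on with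
    | zero => simp
    | tmul a b => simp [smul_tmul']
    | add a b ha hb => simp [TensorProduct.add_tmul, ha, hb]
  · rw [← crd_lTensor, hΘ.2, crd_tmul, Module.Basis.coord_apply, e.repr_self, Finsupp.single_apply]
    simp [eq_comm]

/-- A coaction on a finite projective module over a pointed coalgebra gives a matrix whose entries
span all coefficients. -/
theorem exists_matrix {C : Type*} [AddCommGroup C] [Module R C]
    {δ : C →ₗ[R] C ⊗[R] C} {ε : C →ₗ[R] R} {c₁ : C} (hδ : δ c₁ = c₁ ⊗ₜ[R] c₁) (hε : ε c₁ = 1)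
    {P : Type*} [AddCommGroup P] [Module R P] [Module.Finite R P] [Module.Projective R P]
    {Θ : P →ₗ[R] P ⊗[R] C} (hΘ : IsCoaction δ ε Θ) :
    ∃ (n : ℕ) (b : Matrix (Fin n) (Fin n) C),
      (∀ i j, δ (b i j) = ∑ l, b i l ⊗ₜ[R] b l j) ∧
      (∀ i j, ε (b i j) = if i = j then 1 else 0) ∧
      ∀ (ξ : P →ₗ[R] R) (p : P),
        crd ξ (Θ p) ∈ Submodule.span R (Set.range (fun q : Fin n × Fin n => b q.1 q.2)) := by
  obtain ⟨n, π, hπ⟩ := Module.Finite.exists_fin' R P
  obtain ⟨s, hs⟩ := Module.projective_lifting_property π LinearMap.id hπ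
  have hs' : ∀ p, π (s p) = p := fun p => LinearMap.congr_fun hs p
  let Θ' : (Fin n → R) →ₗ[R] (Fin n → R) ⊗[R] C :=
    s.rTensor C ∘ₗ Θ ∘ₗ π + (TensorProduct.mk R (Fin n → R) C).flip c₁ ∘ₗ (LinearMap.id - s ∘ₗ π)
  have hΘ's : ∀ p, Θ' (s p) = s.rTensor C (Θ p) := fun p => by simp [Θ', hs']
  have hΘ'k : ∀ x, π x = 0 → Θ' x = x ⊗ₜ[R] c₁ := fun x hx => by simp [Θ', hx]
  have hdec : ∀ x : Fin n → R, ∃ p k, π k = 0 ∧ x = s p + k :=
    fun x => ⟨π x, x - s (π x), by simp [hs'], by simp⟩
  have hΘ' : IsCoaction δ ε Θ' := by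
    refine ⟨fun x => ?_, fun x => ?_⟩
    · obtain ⟨p, k, hk, rfl⟩ := hdec x
      rw [map_add, hΘ's, hΘ'k k hk, map_add, map_add, map_add]
      congr 1
      · rw [← LinearMap.rTensor_comp_apply,
          show Θ' ∘ₗ s = s.rTensor C ∘ₗ Θ from LinearMap.ext hΘ's,
          LinearMap.rTensor_comp_apply]
        rw [assoc_rTensor_rTensor, hΘ.1, ← LinearMap.comp_apply, LinearMap.rTensor_comp_lTensor,
          ← LinearMap.lTensor_comp_rTensor, LinearMap.comp_apply]
      · simp [hΘ'k k hk, hδ]
    · obtain ⟨p, k, hk, rfl⟩ := hdec x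
      rw [map_add, hΘ's, hΘ'k k hk, map_add, TensorProduct.add_tmul]
      congr 1
      · rw [← LinearMap.comp_apply, LinearMap.lTensor_comp_rTensor,
          ← LinearMap.rTensor_comp_lTensor, LinearMap.comp_apply, hΘ.2, LinearMap.rTensor_tmul]
      · simp [hε]
  let e := Pi.basisFun R (Fin n)
  refine ⟨n, fun i j => crd (e.coord i) (Θ' (e j)), (exists_matrix_free hΘ' e).1,
    (exists_matrix_free hΘ' e).2, fun ξ p => ?_⟩
  have hp : Θ p = π.rTensor C (Θ' (s p)) := by
    rw [hΘ's, ← LinearMap.rTensor_comp_apply, hs, LinearMap.rTensor_id, LinearMap.id_apply]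
  rw [hp, crd_rTensor, ← e.sum_repr (s p)]
  simp only [map_sum, map_smul]
  refine Submodule.sum_mem _ fun j _ => Submodule.smul_mem _ _ ?_
  rw [← sum_tmul_crd e (Θ' (e j))]
  simp only [map_sum, crd_tmul]
  exact Submodule.sum_mem _ fun i _ => Submodule.smul_mem _ _ (Submodule.subset_span ⟨(i, j), rfl⟩)

/-- A matrix corepresentation of a Hopf algebra has a unit determinant. -/
theorem exists_mul_det_eq_one {A : Type*} [CommRing A] [HopfAlgebra R A] {ι : Type*} [Fintype ι]
    [DecidableEq ι] (a : Matrix ι ι A)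
    (hΔ : ∀ i j, comul (R := R) (a i j) = ∑ l, a i l ⊗ₜ[R] a l j)
    (hε : ∀ i j, counit (R := R) (a i j) = if i = j then 1 else 0) :
    ∃ u : A, u * a.det = 1 := by
  refine ⟨(a.map (HopfAlgebra.antipode R)).det, ?_⟩
  rw [← Matrix.det_mul]
  convert Matrix.det_one (R := A) (n := ι)
  ext i j
  have h := HopfAlgebra.mul_antipode_rTensor_comul_apply (R := R) (a i j)
  rw [hΔ, hε] at h
  simp only [map_sum, LinearMap.rTensor_tmul, LinearMap.mul'_apply] at h
  rw [Matrix.mul_apply, Matrix.one_apply]
  simp only [Matrix.map_apply]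
  rw [h]
  split <;> simp

section Subcomod

variable {C : Type v} [AddCommGroup C] [Module R C] [Coalgebra R C]
variable {V : Type w} [AddCommGroup V] [Module R V] [Comod R C V]

theorem counit_coact (v : V) :
    (counit (R := R) (A := C)).lTensor V (Comod.coact (k := R) (A := C) v) = v ⊗ₜ[R] 1 :=
  LinearMap.congr_fun (Comod.counit_comp (k := R) (A := C) (V := V)) v

theorem coassoc_coact (v : V) :
    TensorProduct.assoc R V C C ((Comod.coact (k := R) (A := C) (V := V)).rTensor C
      (Comod.coact (k := R) (A := C) v)) =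
    (comul (R := R) (A := C)).lTensor V (Comod.coact (k := R) (A := C) v) :=
  LinearMap.congr_fun (Comod.coassoc (k := R) (A := C) (V := V)) v

theorem isCoaction_coact :
    IsCoaction (comul (R := R) (A := C)) counit (Comod.coact (k := R) (A := C) (V := V)) :=
  ⟨coassoc_coact, counit_coact⟩

variable [Module.Flat R C]

/-- Over a Noetherian ring and a flat coalgebra, a finitely generated submodule is contained in a
finitely generated subcomodule. -/
theorem exists_fg_subcomod [IsNoetherianRing R] (M : Submodule R V) (hM : M.FG) :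
    ∃ W : Submodule R V, IsSubcomod (k := R) (A := C) W ∧ M ≤ W ∧ W.FG := by
  classical
  have key : ∀ x : V ⊗[R] C, ∃ N : Submodule R V, N.FG ∧ x ∈ LinearMap.range (N.subtype.rTensor C) := by
    intro x
    obtain ⟨N, hN, hx⟩ := TensorProduct.exists_finite_submodule_left_of_setFinite {x} (Set.finite_singleton x)
    exact ⟨N, Module.Finite.iff_fg.mp hN, hx rfl⟩
  choose N hN hxN using key
  obtain ⟨s, hs⟩ := hM
  let W₀ : Submodule R V := s.sup fun v => N (Comod.coact (k := R) (A := C) v)
  have hW₀ : W₀.FG := Submodule.fg_finset_sup _ _ fun v _ => hN _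
  let g : V →ₗ[R] (V ⧸ W₀) ⊗[R] C := W₀.mkQ.rTensor C ∘ₗ Comod.coact (k := R) (A := C)
  have hgW₀ : LinearMap.ker g ≤ W₀ := by
    intro v hv
    have h1 := congrArg ((counit (R := R) (A := C)).lTensor (V ⧸ W₀)) (LinearMap.mem_ker.mp hv)
    simp only [g, LinearMap.comp_apply, map_zero] at h1
    rw [← LinearMap.comp_apply, LinearMap.lTensor_comp_rTensor, ← LinearMap.rTensor_comp_lTensor,
      LinearMap.comp_apply, counit_coact, LinearMap.rTensor_tmul] at h1
    have h2 := congrArg (TensorProduct.rid R (V ⧸ W₀)) h1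
    simpa using h2
  refine ⟨LinearMap.ker g, fun w hw => ?_, ?_, ?_⟩
  · refine ((Module.Flat.rTensor_exact (M := C) (LinearMap.exact_subtype_ker_map g)) _).mp ?_
    have h := congrArg (W₀.mkQ.rTensor (C ⊗[R] C)) (coassoc_coact (C := C) w)
    rw [← LinearMap.comp_apply (f := LinearMap.rTensor _ W₀.mkQ) (g := LinearMap.lTensor V _),
      LinearMap.rTensor_comp_lTensor, ← LinearMap.lTensor_comp_rTensor, LinearMap.comp_apply,
      show W₀.mkQ.rTensor C (Comod.coact (k := R) (A := C) w) = 0 from LinearMap.mem_ker.mp hw,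
      map_zero] at h
    apply (TensorProduct.assoc R (V ⧸ W₀) C C).injective
    rw [map_zero]
    simp only [g, LinearMap.rTensor_comp_apply]
    rw [← h]
    exact assoc_rTensor_rTensor _ _
  · rw [← hs, Submodule.span_le]
    intro v hv
    rw [SetLike.mem_coe, LinearMap.mem_ker]
    obtain ⟨y, hy⟩ := hxN (Comod.coact (k := R) (A := C) v)
    change W₀.mkQ.rTensor C (Comod.coact (k := R) (A := C) v) = 0
    rw [← hy, ← LinearMap.rTensor_comp_apply]
    have : W₀.mkQ ∘ₗ (N (Comod.coact (k := R) (A := C) v)).subtype = 0 := by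
      ext z
      simp only [LinearMap.comp_apply, Submodule.coe_subtype, Submodule.mkQ_apply,
        Submodule.Quotient.mk_eq_zero, LinearMap.zero_apply]
      exact Finset.le_sup (f := fun v => N (Comod.coact (k := R) (A := C) v)) hv z.2
    rw [this]
    simp
  · haveI : Module.Finite R W₀ := Module.Finite.iff_fg.mpr hW₀
    exact Submodule.FG.of_le hW₀ hgW₀

/-- The coaction of a subcomodule. -/
noncomputable def subCoact {W : Submodule R V} (hW : IsSubcomod (k := R) (A := C) W) :
    W →ₗ[R] W ⊗[R] C :=
  (LinearEquiv.ofInjective (W.subtype.rTensor C)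
      (Module.Flat.rTensor_preserves_injective_linearMap _ W.injective_subtype)).symm.toLinearMap ∘ₗ
    (Comod.coact (k := R) (A := C) ∘ₗ W.subtype).codRestrict _ (fun w => hW w w.2)

theorem rTensor_subCoact {W : Submodule R V} (hW : IsSubcomod (k := R) (A := C) W) (w : W) :
    W.subtype.rTensor C (subCoact hW w) = Comod.coact (k := R) (A := C) (w : V) := by
  let e := LinearEquiv.ofInjective (W.subtype.rTensor C)
    (Module.Flat.rTensor_preserves_injective_linearMap _ W.injective_subtype)
  have h : ∀ y, W.subtype.rTensor C (e.symm y) = (y : V ⊗[R] C) := fun y =>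
    congrArg Subtype.val (e.apply_symm_apply y)
  exact h _

/-- A subcomodule as a comodule. -/
@[reducible] noncomputable def subComod {W : Submodule R V} (hW : IsSubcomod (k := R) (A := C) W) :
    Comod R C W where
  coact := subCoact hW
  coassoc := by
    refine LinearMap.ext fun w => ?_
    apply Module.Flat.rTensor_preserves_injective_linearMap (M := C ⊗[R] C) W.subtype W.injective_subtype
    simp only [LinearMap.comp_apply, LinearEquiv.coe_coe]
    rw [← assoc_rTensor_rTensor, ← LinearMap.rTensor_comp_apply,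
      show W.subtype.rTensor C ∘ₗ subCoact hW = Comod.coact (k := R) (A := C) ∘ₗ W.subtype from
        LinearMap.ext (rTensor_subCoact hW),
      LinearMap.rTensor_comp_apply, rTensor_subCoact, coassoc_coact,
      ← LinearMap.comp_apply (f := LinearMap.rTensor _ W.subtype), LinearMap.rTensor_comp_lTensor,
      ← LinearMap.lTensor_comp_rTensor, LinearMap.comp_apply, rTensor_subCoact]
  counit_comp := by
    refine LinearMap.ext fun w => ?_
    apply Module.Flat.rTensor_preserves_injective_linearMap (M := R) W.subtype W.injective_subtype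
    simp only [LinearMap.comp_apply, LinearMap.flip_apply, TensorProduct.mk_apply,
      LinearMap.rTensor_tmul]
    rw [← LinearMap.comp_apply (f := LinearMap.rTensor _ W.subtype), LinearMap.rTensor_comp_lTensor,
      ← LinearMap.lTensor_comp_rTensor, LinearMap.comp_apply, rTensor_subCoact, counit_coact]
    rfl

end Subcomod

/-- `W^* ⊗ N → Hom(W, N)` is bijective for finitely presented `W` and flat `N`. -/
theorem dualTensorHom_bijective_of_finitePresentation (W : Type*) [AddCommGroup W] [Module R W]
    [Module.FinitePresentation R W] (N : Type*) [AddCommGroup N] [Module R N] [Module.Flat R N] :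
    Function.Bijective (dualTensorHom R W N) := by
  obtain ⟨n, π, hπ⟩ := Module.Finite.exists_fin' R W
  haveI : Module.Finite R (LinearMap.ker π) :=
    Module.Finite.iff_fg.mpr (Module.FinitePresentation.fg_ker π hπ)
  obtain ⟨m, σ, hσ⟩ := Module.Finite.exists_fin' R (LinearMap.ker π)
  let v : (Fin m → R) →ₗ[R] (Fin n → R) := (LinearMap.ker π).subtype ∘ₗ σ
  have hπv : π ∘ₗ v = 0 := LinearMap.ext fun x => (σ x).2
  have hinj : Function.Injective π.dualMap := LinearMap.dualMap_injective_of_surjective hπ
  have hex : Function.Exact π.dualMap v.dualMap := by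
    intro φ
    constructor
    · intro h
      have hker : LinearMap.ker π ≤ LinearMap.ker φ := fun x hx => by
        obtain ⟨y, hy⟩ := hσ ⟨x, hx⟩
        rw [LinearMap.mem_ker, show x = v y from (congrArg Subtype.val hy).symm]
        exact LinearMap.congr_fun h y
      let e := π.quotKerEquivOfSurjective hπ
      refine ⟨(LinearMap.ker π).liftQ φ hker ∘ₗ e.symm.toLinearMap, LinearMap.ext fun x => ?_⟩
      simp [e, LinearMap.quotKerEquivOfSurjective_symm_apply]
    · rintro ⟨ψ, rfl⟩
      ext x
      simp only [LinearMap.dualMap_apply', LinearMap.comp_assoc, hπv, LinearMap.comp_zero]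
  have hnat : ∀ x, dualTensorHom R (Fin n → R) N (π.dualMap.rTensor N x) =
      (dualTensorHom R W N x) ∘ₗ π := fun x =>
    LinearMap.congr_fun (dualTensorHom_comp_rTensor_dualMap (R := R) (P := N) π) x
  have hnat' : ∀ y, dualTensorHom R (Fin m → R) N (v.dualMap.rTensor N y) =
      (dualTensorHom R (Fin n → R) N y) ∘ₗ v := fun y =>
    LinearMap.congr_fun (dualTensorHom_comp_rTensor_dualMap (R := R) (P := N) v) y
  constructor
  · intro x x' h
    apply Module.Flat.rTensor_preserves_injective_linearMap (M := N) π.dualMap hinj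
    apply (dualTensorHomEquiv R (Fin n → R) N).injective
    change dualTensorHom R (Fin n → R) N _ = dualTensorHom R (Fin n → R) N _
    rw [hnat, hnat, h]
  · intro h
    obtain ⟨y, hy⟩ := (dualTensorHomEquiv R (Fin n → R) N).surjective (h ∘ₗ π)
    change dualTensorHom R (Fin n → R) N y = _ at hy
    have hy0 : v.dualMap.rTensor N y = 0 := by
      apply (dualTensorHomEquiv R (Fin m → R) N).injective
      change dualTensorHom R (Fin m → R) N _ = dualTensorHom R (Fin m → R) N _
      rw [hnat', hy, LinearMap.comp_assoc, hπv, LinearMap.comp_zero, map_zero]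
    obtain ⟨x, hx⟩ := ((Module.Flat.rTensor_exact (M := N) hex) y).mp hy0
    refine ⟨x, (LinearMap.cancel_right hπ).mp ?_⟩
    rw [← hnat, hx, hy]

/-- The coaction on the dual of a finitely presented comodule, flipped. -/
theorem exists_dual_coaction {C : Type*} [AddCommGroup C] [Module R C] [Module.Flat R C]
    {δ : C →ₗ[R] C ⊗[R] C} {ε : C →ₗ[R] R}
    {W : Type*} [AddCommGroup W] [Module R W] [Module.FinitePresentation R W]
    {ρ : W →ₗ[R] W ⊗[R] C} (hρ : IsCoaction δ ε ρ) :
    ∃ Θ : Module.Dual R W →ₗ[R] Module.Dual R W ⊗[R] C,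
      IsCoaction ((TensorProduct.comm R C C).toLinearMap ∘ₗ δ) ε Θ ∧
      ∀ φ w, dualTensorHom R W C (Θ φ) w = crd φ (ρ w) := by
  let e := LinearEquiv.ofBijective _ (dualTensorHom_bijective_of_finitePresentation (R := R) W C)
  let g : Module.Dual R W →ₗ[R] W →ₗ[R] C :=
    { toFun := fun φ => crd φ ∘ₗ ρ
      map_add' := fun a b => by
        refine LinearMap.ext fun w => ?_
        simp [crd, LinearMap.rTensor_add]
      map_smul' := fun r a => by
        refine LinearMap.ext fun w => ?_
        simp [crd, LinearMap.rTensor_smul] }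
  let Θ : Module.Dual R W →ₗ[R] Module.Dual R W ⊗[R] C := e.symm.toLinearMap ∘ₗ g
  have hkey : ∀ φ w, dualTensorHom R W C (Θ φ) w = crd φ (ρ w) := fun φ w =>
    LinearMap.congr_fun (e.apply_symm_apply (g φ)) w
  refine ⟨Θ, ⟨fun φ => ?_, fun φ => ?_⟩, hkey⟩
  · apply (dualTensorHom_bijective_of_finitePresentation (R := R) W (C ⊗[R] C)).1
    refine LinearMap.ext fun w => ?_
    rw [dualTensorHom_lTensor_apply]
    simp only [LinearMap.comp_apply, LinearEquiv.coe_coe, hkey]
    have hA : ∀ x : Module.Dual R W ⊗[R] C,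
        dualTensorHom R W (C ⊗[R] C) (TensorProduct.assoc R _ C C (Θ.rTensor C x)) w =
          TensorProduct.comm R C C ((dualTensorHom R W C x).rTensor C (ρ w)) := fun x => by
      induction x using TensorProduct.induction_on with
      | zero => simp
      | add a b ha hb => simp [ha, hb, LinearMap.rTensor_add]
      | tmul ψ c =>
        have h1 : ∀ y, dualTensorHom R W (C ⊗[R] C) (TensorProduct.assoc R _ C C (y ⊗ₜ[R] c)) w =
            dualTensorHom R W C y w ⊗ₜ[R] c := fun y => by
          induction y using TensorProduct.induction_on with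
          | zero => simp
          | add a b ha hb => simp [TensorProduct.add_tmul, ha, hb]
          | tmul a b => simp [smul_tmul']
        rw [LinearMap.rTensor_tmul, h1, hkey]
        generalize ρ w = z
        induction z using TensorProduct.induction_on with
        | zero => simp
        | add a b ha hb => simp [TensorProduct.add_tmul, map_add, ha, hb]
        | tmul a b => simp [smul_tmul]
    rw [hA]
    congr 1
    rw [← crd_lTensor, ← hρ.1, show dualTensorHom R W C (Θ φ) = crd φ ∘ₗ ρ from LinearMap.ext (hkey φ),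
      LinearMap.rTensor_comp_apply]
    generalize ρ.rTensor C (ρ w) = y
    induction y using TensorProduct.induction_on with
    | zero => simp
    | add a b ha hb => simp [ha, hb]
    | tmul a c =>
      induction a using TensorProduct.induction_on with
      | zero => simp
      | add a b ha hb => simp [TensorProduct.add_tmul, ha, hb]
      | tmul a b => simp [smul_tmul']
  · apply (dualTensorHom_bijective_of_finitePresentation (R := R) W R).1
    refine LinearMap.ext fun w => ?_
    rw [dualTensorHom_lTensor_apply, hkey, ← crd_lTensor, hρ.2]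
    simp

end Groth.Agent.ComodRing
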