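import Groth.Agent.ComodRing.Syzygy
import Groth.Agent.ComodRing.Basic

/-!
# Duals over regular rings of dimension at most two
-/

universe u v

namespace Groth.Agent.ComodRing

/-- The dual of a finite module over a regular ring of dimension at most two is finite projective. -/
theorem finite_projective_dual (R : Type u) [CommRing R] [IsRegularRing R] (hdim : ringKrullDim R ≤ 2)
    (W : Type v) [AddCommGroup W] [Module R W] [Module.Finite R W] :
    Module.Finite R (Module.Dual R W) ∧ Module.Projective R (Module.Dual R W) := by
  obtain ⟨n, π, hπ⟩ := Module.Finite.exists_fin' R W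
  obtain ⟨m, σ, hσ⟩ := Module.Finite.exists_fin' R (LinearMap.ker π)
  let v : (Fin m → R) →ₗ[R] (Fin n → R) := (LinearMap.ker π).subtype ∘ₗ σ
  have hinj : Function.Injective π.dualMap := LinearMap.dualMap_injective_of_surjective hπ
  have hrange : LinearMap.range π.dualMap = LinearMap.ker v.dualMap := by
    refine le_antisymm ?_ fun φ h => ?_
    · rintro _ ⟨ψ, rfl⟩
      refine LinearMap.ext fun x => ?_
      change ψ (π (v x)) = 0
      rw [show π (v x) = 0 from (σ x).2, map_zero]
    · have hker : LinearMap.ker π ≤ LinearMap.ker φ := fun x hx => by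
        obtain ⟨y, hy⟩ := hσ ⟨x, hx⟩
        rw [LinearMap.mem_ker, show x = v y from (congrArg Subtype.val hy).symm]
        exact LinearMap.congr_fun h y
      refine ⟨(LinearMap.ker π).liftQ φ hker ∘ₗ (π.quotKerEquivOfSurjective hπ).symm.toLinearMap,
        LinearMap.ext fun x => ?_⟩
      simp [LinearMap.quotKerEquivOfSurjective_symm_apply]
  have e : Module.Dual R W ≃ₗ[R] LinearMap.ker v.dualMap :=
    (LinearEquiv.ofInjective π.dualMap hinj).trans (LinearEquiv.ofEq _ _ hrange)
  haveI := projective_ker_of_regular R hdim v.dualMap
  exact ⟨Module.Finite.equiv e.symm, Module.Projective.of_equiv e.symm⟩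

end Groth.Agent.ComodRing
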