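import Groth.Agent.ComodRing.Syzygy
import Groth.Agent.ComodRing.Basic
import Mathlib.LinearAlgebra.DirectSum.Finsupp
import Mathlib.LinearAlgebra.Finsupp.SumProd
import Mathlib.Algebra.Module.Projective

/-!
# Equivariant resolutions by projective comodules over regular rings of dimension at most two
-/

universe u v w

namespace Groth.Agent.ComodRing

open TensorProduct HopfRep CoalgebraStruct

variable {R : Type u} [CommRing R]

section Slice

variable {M : Type*} [AddCommGroup M] [Module R M] {N : Type*} [AddCommGroup N] [Module R N]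

/-- Contraction of the right factor. -/
noncomputable def scr (χ : N →ₗ[R] R) : M ⊗[R] N →ₗ[R] M :=
  (TensorProduct.rid R M).toLinearMap ∘ₗ χ.lTensor M

@[simp] theorem scr_tmul (χ : N →ₗ[R] R) (m : M) (n : N) : scr χ (m ⊗ₜ[R] n) = χ n • m := by
  simp [scr]

theorem scr_rTensor {M' : Type*} [AddCommGroup M'] [Module R M'] (χ : N →ₗ[R] R) (f : M →ₗ[R] M')
    (x : M ⊗[R] N) : scr χ (f.rTensor N x) = f (scr χ x) := by
  induction x using TensorProduct.induction_on with
  | zero => simp
  | tmul a b => simp
  | add a b ha hb => simp [ha, hb]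

theorem eq_zero_of_scr [Module.Projective R N] (x : M ⊗[R] N)
    (h : ∀ χ : N →ₗ[R] R, scr χ x = 0) : x = 0 := by
  classical
  obtain ⟨s, hs⟩ := Module.Projective.out (R := R) (P := N)
  have hs' : Finsupp.linearCombination R id ∘ₗ s = LinearMap.id := LinearMap.ext hs
  have h1 : s.lTensor M x = 0 := by
    apply (TensorProduct.finsuppScalarRight R R M N).injective
    rw [map_zero]
    ext c
    rw [Finsupp.zero_apply, ← h (Finsupp.lapply c ∘ₗ s)]
    clear h
    induction x using TensorProduct.induction_on with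
    | zero => simp
    | tmul a b => simp
    | add a b ha hb => simp [ha, hb]
  rw [← LinearMap.lTensor_id_apply (R := R) (M := M) (N := N) x, ← hs', LinearMap.lTensor_comp_apply, h1,
    map_zero]

theorem eq_zero_of_dual [Module.Projective R N] (x : N) (h : ∀ χ : N →ₗ[R] R, χ x = 0) : x = 0 := by
  classical
  obtain ⟨s, hs⟩ := Module.Projective.out (R := R) (P := N)
  have : s x = 0 := Finsupp.ext fun c => h (Finsupp.lapply c ∘ₗ s)
  rw [← hs x, this, map_zero]

theorem mem_range_rTensor_of_scr [Module.Projective R N] (W : Submodule R M) (x : M ⊗[R] N)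
    (h : ∀ χ : N →ₗ[R] R, scr χ x ∈ W) : x ∈ LinearMap.range (W.subtype.rTensor N) := by
  refine ((rTensor_exact N (LinearMap.exact_subtype_mkQ W) W.mkQ_surjective) x).1
    (eq_zero_of_scr _ fun χ => ?_)
  rw [scr_rTensor, Submodule.mkQ_apply, Submodule.Quotient.mk_eq_zero]
  exact h χ

end Slice

/-- The double orthogonal of a finitely generated submodule of a projective module is finitely
generated, and projective if the ring is regular of dimension at most two. -/
theorem exists_closure [IsRegularRing R] (hdim : ringKrullDim R ≤ 2)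
    {M : Type v} [AddCommGroup M] [Module R M] [Module.Projective R M] (Y : Submodule R M) (hY : Y.FG) :
    ∃ V : Submodule R M, Y ≤ V ∧ Module.Finite R V ∧ Module.Projective R V ∧
      (∀ m ∈ V, ∀ ψ : M →ₗ[R] R, (∀ y ∈ Y, ψ y = 0) → ψ m = 0) ∧
      ∀ m, (∀ ψ : M →ₗ[R] R, (∀ y ∈ Y, ψ y = 0) → ψ m = 0) → m ∈ V := by
  classical
  let V : Submodule R M :=
    ⨅ (ψ : M →ₗ[R] R) (_ : ∀ y ∈ Y, ψ y = 0), LinearMap.ker ψ
  have hmem : ∀ m, m ∈ V ↔ ∀ ψ : M →ₗ[R] R, (∀ y ∈ Y, ψ y = 0) → ψ m = 0 := fun m => by
    simp [V]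
  have hYV : Y ≤ V := fun y hy => (hmem y).2 fun ψ hψ => hψ y hy
  refine ⟨V, hYV, ?_, ?_, fun m hm => (hmem m).1 hm, fun m hm => (hmem m).2 hm⟩
  all_goals
    obtain ⟨i, hi⟩ := Module.Projective.out (R := R) (P := M)
    obtain ⟨t, ht⟩ := hY
    let s : Finset M := t.sup fun y => (i y).support
    let lc : (M →₀ R) →ₗ[R] M := Finsupp.linearCombination R id
    let res : (M →₀ R) →ₗ[R] (s → R) := LinearMap.pi fun c => Finsupp.lapply (c : M)
    let ext : (s → R) →ₗ[R] (M →₀ R) := ∑ c : s, Finsupp.lsingle (c : M) ∘ₗ LinearMap.proj c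
    let Ann : Submodule R ((s → R) →ₗ[R] R) :=
      ⨅ y ∈ Y, LinearMap.ker (LinearMap.applyₗ (res (i y)))
    have hAnn : ∀ ψ, ψ ∈ Ann ↔ ∀ y ∈ Y, ψ (res (i y)) = 0 := fun ψ => by simp [Ann]
    haveI : IsNoetherian R ((s → R) →ₗ[R] R) := isNoetherian_of_isNoetherianRing_of_finite R _
    haveI : Module.Finite R Ann := Module.Finite.iff_fg.mpr (IsNoetherian.noetherian Ann)
    obtain ⟨k, g, hg⟩ := Module.Finite.exists_fin' R Ann
    let u : (s → R) →ₗ[R] (Fin k → R) :=
      LinearMap.pi fun j => ((g (Pi.single j 1) : Ann) : (s → R) →ₗ[R] R)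
    have hu : ∀ x, u x = 0 ↔ ∀ ψ ∈ Ann, ψ x = 0 := by
      intro x
      constructor
      · intro h ψ hψ
        obtain ⟨c, hc⟩ := hg ⟨ψ, hψ⟩
        have hval : ψ = ((g c : Ann) : (s → R) →ₗ[R] R) := (congrArg Subtype.val hc).symm
        rw [hval, ← (Pi.basisFun R (Fin k)).sum_repr c]
        simp only [map_sum, map_smul, Submodule.coe_sum, Submodule.coe_smul, LinearMap.sum_apply,
          LinearMap.smul_apply, Pi.basisFun_apply]
        refine Finset.sum_eq_zero fun j _ => ?_
        have hj : ((g (Pi.single j 1) : Ann) : (s → R) →ₗ[R] R) x = 0 := congrFun h j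
        rw [hj, smul_zero]
      · intro h
        exact funext fun j => h _ (g (Pi.single j 1)).2
    have hsupp : ∀ y ∈ Y, ∀ c : M, c ∉ s → i y c = 0 := by
      intro y hy c hc
      have hle : Y ≤ LinearMap.ker (Finsupp.lapply c ∘ₗ i) := by
        rw [← ht, Submodule.span_le]
        intro z hz
        by_contra hne
        exact hc (Finset.le_sup (f := fun y => (i y).support) hz (Finsupp.mem_support_iff.mpr hne))
      exact hle hy
    have hext : ∀ z : M →₀ R, (∀ c, c ∉ s → z c = 0) → ext (res z) = z := by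
      intro z hz
      ext c
      simp only [ext, res, LinearMap.sum_apply, LinearMap.comp_apply, LinearMap.proj_apply,
        LinearMap.pi_apply, Finsupp.lapply_apply, Finsupp.coe_finsetSum, Finset.sum_apply,
        Finsupp.lsingle_apply, Finsupp.single_apply]
      by_cases hc : c ∈ s
      · rw [Finset.sum_eq_single ⟨c, hc⟩ (fun b _ hb => if_neg fun e => hb (Subtype.ext e))
          (fun h => absurd (Finset.mem_univ _) h)]
        simp
      · rw [hz c hc]
        exact Finset.sum_eq_zero fun b _ => if_neg fun (e : (b : M) = c) => hc (e ▸ b.2)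
    have hrange : ∀ x, x ∈ LinearMap.ker u ↔ ∃ m ∈ V, res (i m) = x := by
      intro x
      constructor
      · intro hx
        rw [LinearMap.mem_ker, hu] at hx
        refine ⟨lc (ext x), (hmem _).2 fun ψ hψ => ?_, ?_⟩
        · refine hx (ψ ∘ₗ lc ∘ₗ ext) ((hAnn _).2 fun y hy => ?_)
          simp only [LinearMap.comp_apply]
          rw [hext _ (hsupp y hy)]
          simp only [lc, hi y, hψ y hy]
        · funext c
          have := hx ((LinearMap.proj c : (s → R) →ₗ[R] R) ∘ₗ
            (LinearMap.id - res ∘ₗ i ∘ₗ lc ∘ₗ ext)) ((hAnn _).2 fun y hy => by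
              simp only [LinearMap.comp_apply, LinearMap.sub_apply, LinearMap.id_apply]
              rw [hext _ (hsupp y hy)]
              simp [lc, hi y])
          simp only [LinearMap.comp_apply, LinearMap.sub_apply, LinearMap.id_apply,
            LinearMap.proj_apply, Pi.sub_apply, sub_eq_zero] at this
          exact this.symm
      · rintro ⟨m, hm, rfl⟩
        rw [LinearMap.mem_ker, hu]
        intro ψ hψ
        exact (hmem m).1 hm (ψ ∘ₗ res ∘ₗ i) fun y hy => (hAnn ψ).1 hψ y hy
    have hVsupp : ∀ m ∈ V, ∀ c, c ∉ s → i m c = 0 := fun m hm c hc =>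
      (hmem m).1 hm (Finsupp.lapply c ∘ₗ i) fun y hy => hsupp y hy c hc
    let f : V →ₗ[R] LinearMap.ker u :=
      (res ∘ₗ i ∘ₗ V.subtype).codRestrict _ fun m => (hrange _).2 ⟨m, m.2, rfl⟩
    have hf : Function.Bijective f := by
      constructor
      · intro a b hab
        have h1 : res (i a) = res (i b) := congrArg Subtype.val hab
        apply Subtype.ext
        rw [← hi a, ← hi b, ← hext _ (hVsupp a a.2), h1, hext _ (hVsupp b b.2)]
      · rintro ⟨x, hx⟩
        obtain ⟨m, hm, rfl⟩ := (hrange x).1 hx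
        exact ⟨⟨m, hm⟩, Subtype.ext rfl⟩
  · exact Module.Finite.equiv (LinearEquiv.ofBijective f hf).symm
  · haveI := projective_ker_of_regular R hdim u
    exact Module.Projective.of_equiv (LinearEquiv.ofBijective f hf).symm

section Comod

variable {C : Type v} [AddCommGroup C] [Module R C] [Coalgebra R C]

/-- The cofree comodule. -/
@[reducible] noncomputable def cofree (P : Type w) [AddCommGroup P] [Module R P] :
    Comod R C (P ⊗[R] C) where
  coact := (TensorProduct.assoc R P C C).symm.toLinearMap ∘ₗ (comul (R := R) (A := C)).lTensor P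
  coassoc := by
    refine TensorProduct.ext' fun p c => ?_
    simp only [LinearMap.comp_apply, LinearEquiv.coe_coe, LinearMap.lTensor_tmul]
    have hA : ∀ y : C ⊗[R] C, TensorProduct.assoc R (P ⊗[R] C) C C
        (((TensorProduct.assoc R P C C).symm.toLinearMap ∘ₗ (comul (R := R) (A := C)).lTensor P).rTensor C
          ((TensorProduct.assoc R P C C).symm (p ⊗ₜ[R] y))) =
        (TensorProduct.assoc R P C (C ⊗[R] C)).symm
          (p ⊗ₜ[R] TensorProduct.assoc R C C C ((comul (R := R) (A := C)).rTensor C y)) := fun y => by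
      induction y using TensorProduct.induction_on with
      | zero => simp
      | add a b ha hb => simp [TensorProduct.tmul_add, map_add, ha, hb]
      | tmul a b =>
        simp only [TensorProduct.assoc_symm_tmul, LinearMap.rTensor_tmul, LinearMap.comp_apply,
          LinearEquiv.coe_coe, LinearMap.lTensor_tmul]
        generalize comul (R := R) a = z
        induction z using TensorProduct.induction_on with
        | zero => simp
        | add a b ha hb => simp [TensorProduct.tmul_add, TensorProduct.add_tmul, map_add, ha, hb]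
        | tmul a b => simp
    have hB : ∀ y : C ⊗[R] C, (comul (R := R) (A := C)).lTensor (P ⊗[R] C)
          ((TensorProduct.assoc R P C C).symm (p ⊗ₜ[R] y)) =
        (TensorProduct.assoc R P C (C ⊗[R] C)).symm
          (p ⊗ₜ[R] (comul (R := R) (A := C)).lTensor C y) := fun y => by
      induction y using TensorProduct.induction_on with
      | zero => simp
      | add a b ha hb => simp [TensorProduct.tmul_add, map_add, ha, hb]
      | tmul a b => simp
    rw [hA, hB, Coalgebra.coassoc_apply]
  counit_comp := by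
    refine TensorProduct.ext' fun p c => ?_
    simp only [LinearMap.comp_apply, LinearEquiv.coe_coe, LinearMap.lTensor_tmul, LinearMap.flip_apply,
      TensorProduct.mk_apply]
    have h : ∀ y : C ⊗[R] C, (counit (R := R) (A := C)).lTensor (P ⊗[R] C)
        ((TensorProduct.assoc R P C C).symm (p ⊗ₜ[R] y)) =
        (TensorProduct.assoc R P C R).symm (p ⊗ₜ[R] (counit (R := R) (A := C)).lTensor C y) := fun y => by
      induction y using TensorProduct.induction_on with
      | zero => simp
      | add a b ha hb => simp [TensorProduct.tmul_add, ha, hb]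
      | tmul a b => simp
    rw [h, Coalgebra.lTensor_counit_comul]
    simp

theorem scr_comp_coact {V W : Type*} [AddCommGroup V] [Module R V] [AddCommGroup W] [Module R W]
    [cV : Comod R C V] [cW : Comod R C W] (f : V →ₗ[R] W)
    (hf : ∀ v, Comod.coact (k := R) (A := C) (f v) = f.rTensor C (Comod.coact (k := R) (A := C) v))
    (χ : C →ₗ[R] R) (v : V) :
    scr χ (Comod.coact (k := R) (A := C) (f v)) = f (scr χ (Comod.coact (k := R) (A := C) v)) := by
  rw [hf, scr_rTensor]

theorem scr_mem_of_isSubcomod {V : Type*} [AddCommGroup V] [Module R V] [Comod R C V]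
    {W : Submodule R V} (hW : IsSubcomod (k := R) (A := C) W) (χ : C →ₗ[R] R) {w : V} (hw : w ∈ W) :
    scr χ (Comod.coact (k := R) (A := C) w) ∈ W := by
  obtain ⟨y, hy⟩ := hW w hw
  rw [← hy, scr_rTensor]
  exact Subtype.prop _

variable [Module.Projective R C]

theorem isSubcomod_of_scr {V : Type*} [AddCommGroup V] [Module R V] [Comod R C V] {W : Submodule R V}
    (h : ∀ (χ : C →ₗ[R] R), ∀ w ∈ W, scr χ (Comod.coact (k := R) (A := C) w) ∈ W) :
    IsSubcomod (k := R) (A := C) W :=
  fun w hw => mem_range_rTensor_of_scr W _ fun χ => h χ w hw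

/-- The counit-contraction of the lift `q ⊗ id`. -/
noncomputable def eps {P F : Type*} [AddCommGroup P] [Module R P] [AddCommGroup F] [Module R F]
    (q : P →ₗ[R] F) : P ⊗[R] C →ₗ[R] F :=
  scr (counit (R := R) (A := C)) ∘ₗ q.rTensor C

theorem rTensor_eps_cofree {P F : Type*} [AddCommGroup P] [Module R P] [AddCommGroup F] [Module R F]
    (q : P →ₗ[R] F) (m : P ⊗[R] C) :
    (eps (C := C) q).rTensor C ((cofree (C := C) P).coact m) = q.rTensor C m := by
  induction m using TensorProduct.induction_on with
  | zero => simp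
  | add a b ha hb => simp only [map_add, ha, hb]
  | tmul p c =>
    have h : ∀ y : C ⊗[R] C, (eps (C := C) q).rTensor C ((TensorProduct.assoc R P C C).symm (p ⊗ₜ[R] y)) =
        q p ⊗ₜ[R] TensorProduct.lid R C ((counit (R := R) (A := C)).rTensor C y) := fun y => by
      induction y using TensorProduct.induction_on with
      | zero => simp
      | add a b ha hb => simp [TensorProduct.tmul_add, ha, hb]
      | tmul a b => simp [eps, TensorProduct.tmul_smul, TensorProduct.smul_tmul']
    change (eps (C := C) q).rTensor C ((TensorProduct.assoc R P C C).symm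
      (p ⊗ₜ[R] comul (R := R) c)) = _
    rw [h, Coalgebra.rTensor_counit_comul]
    simp

/-- A comodule morphism `F → F ⊗ C`, the coaction, commutes with contraction. -/
theorem scr_cofree_coact {F : Type*} [AddCommGroup F] [Module R F] [Comod R C F] (χ : C →ₗ[R] R) (x : F) :
    scr χ ((cofree (C := C) F).coact (Comod.coact (k := R) (A := C) x)) =
      Comod.coact (k := R) (A := C) (scr χ (Comod.coact (k := R) (A := C) x)) := by
  rw [← scr_rTensor]
  congr 1
  change (TensorProduct.assoc R F C C).symm _ = _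
  rw [LinearEquiv.symm_apply_eq, coassoc_coact]

theorem cofree_coact_rTensor {P F : Type*} [AddCommGroup P] [Module R P] [AddCommGroup F] [Module R F]
    (q : P →ₗ[R] F) (m : P ⊗[R] C) :
    (cofree (C := C) F).coact (q.rTensor C m) = (q.rTensor C).rTensor C ((cofree (C := C) P).coact m) := by
  apply (TensorProduct.assoc R F C C).injective
  rw [assoc_rTensor_rTensor]
  change TensorProduct.assoc R F C C ((TensorProduct.assoc R F C C).symm _) =
    q.rTensor _ (TensorProduct.assoc R P C C ((TensorProduct.assoc R P C C).symm _))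
  rw [LinearEquiv.apply_symm_apply, LinearEquiv.apply_symm_apply]
  rw [← LinearMap.comp_apply, LinearMap.lTensor_comp_rTensor, ← LinearMap.rTensor_comp_lTensor,
    LinearMap.comp_apply]

/-- One step of the resolution: a finitely generated comodule is a quotient of the finitely generated
subcomodules of a cofree comodule on a finite free module which satisfy the conditions below. -/
theorem exists_step [IsNoetherianRing R] {F : Type w} [AddCommGroup F] [Module R F] [Comod R C F]
    [Module.Finite R F] :
    ∃ (n : ℕ) (q : (Fin n → R) →ₗ[R] F) (Y : Submodule R ((Fin n → R) ⊗[R] C)),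
      Y.FG ∧ (∀ χ : C →ₗ[R] R, ∀ y ∈ Y, scr χ ((cofree (C := C) (Fin n → R)).coact y) ∈ Y) ∧
      (∀ y ∈ Y, q.rTensor C y = Comod.coact (k := R) (A := C) (eps (C := C) q y)) ∧
      ∀ x, ∃ y ∈ Y, eps (C := C) q y = x := by
  obtain ⟨n, q, hq⟩ := Module.Finite.exists_fin' R F
  letI := cofree (R := R) (C := C) (Fin n → R)
  obtain ⟨t, ht⟩ := (inferInstance : Module.Finite R F).fg_top
  have hqC : Function.Surjective (q.rTensor C) := LinearMap.rTensor_surjective C hq
  choose l hl using fun x => hqC (Comod.coact (k := R) (A := C) x)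
  have heps : ∀ m x, q.rTensor C m = Comod.coact (k := R) (A := C) x → eps (C := C) q m = x := by
    intro m x h
    rw [eps, LinearMap.comp_apply, h, scr, LinearMap.comp_apply, counit_coact]
    simp
  obtain ⟨W, hW, hlW, hWfg⟩ := exists_fg_subcomod (C := C) (V := (Fin n → R) ⊗[R] C)
    (Submodule.span R (l '' (t : Set F))) (Submodule.fg_span (t.finite_toSet.image l))
  let Pre : Submodule R ((Fin n → R) ⊗[R] C) :=
    (LinearMap.range (Comod.coact (k := R) (A := C) (V := F))).comap (q.rTensor C)
  refine ⟨n, q, W ⊓ Pre, Submodule.FG.of_le hWfg inf_le_left, ?_, ?_, ?_⟩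
  · rintro χ y ⟨hyW, x, hx⟩
    refine ⟨scr_mem_of_isSubcomod hW χ hyW, scr χ (Comod.coact (k := R) (A := C) x), ?_⟩
    rw [← scr_cofree_coact, hx, cofree_coact_rTensor, scr_rTensor]
  · rintro y ⟨-, x, hx⟩
    rw [heps y x hx.symm, hx]
  · have hle : (⊤ : Submodule R F) ≤ (W ⊓ Pre).map (eps (C := C) q) := by
      rw [← ht, Submodule.span_le]
      intro x hx
      exact ⟨l x, ⟨hlW (Submodule.subset_span ⟨x, hx, rfl⟩), x, (hl x).symm⟩, heps _ _ (hl x)⟩
    intro x
    exact hle (Submodule.mem_top (x := x))

/-- A finitely generated comodule `X` such that `X ⊗ C` is separated by functionals is a quotient of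
a finitely generated projective comodule. -/
theorem exists_projective_cover_of_separated [IsRegularRing R] (hdim : ringKrullDim R ≤ 2)
    {X : Type w} [AddCommGroup X] [Module R X] [Comod R C X] [Module.Finite R X]
    (hsep : ∀ z : X ⊗[R] C, (∀ χ : X ⊗[R] C →ₗ[R] R, χ z = 0) → z = 0) :
    ∃ (n : ℕ) (V : Submodule R ((Fin n → R) ⊗[R] C)) (c : Comod R C V) (φ : V →ₗ[R] X),
      Module.Finite R V ∧ Module.Projective R V ∧ Function.Surjective φ ∧
      Comod.coact (k := R) (A := C) ∘ₗ φ = φ.rTensor C ∘ₗ c.coact := by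
  classical
  obtain ⟨n, q, Y, hYfg, hYs, hYq, hYsurj⟩ := exists_step (R := R) (C := C) (F := X)
  letI cP := cofree (R := R) (C := C) (Fin n → R)
  obtain ⟨V, hYV, hVf, hVp, hV1, hV2⟩ := exists_closure hdim Y hYfg
  have hVs : IsSubcomod (k := R) (A := C) V := by
    refine isSubcomod_of_scr fun χ m hm => hV2 _ fun ψ hψ => ?_
    exact hV1 m hm (ψ ∘ₗ scr χ ∘ₗ Comod.coact (k := R) (A := C)) fun y hy => hψ _ (hYs χ y hy)
  have hgV : ∀ m ∈ V, q.rTensor C m = Comod.coact (k := R) (A := C) (eps (C := C) q m) := by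
    intro m hm
    rw [← sub_eq_zero]
    refine hsep _ fun χ => ?_
    refine hV1 m hm (χ ∘ₗ (q.rTensor C - Comod.coact (k := R) (A := C) ∘ₗ eps (C := C) q))
      fun y hy => ?_
    rw [LinearMap.comp_apply, LinearMap.sub_apply, LinearMap.comp_apply, hYq y hy, sub_self, map_zero]
  refine ⟨n, V, subComod hVs, eps (C := C) q ∘ₗ V.subtype, hVf, hVp, ?_, LinearMap.ext fun m => ?_⟩
  · intro x
    obtain ⟨z, hz, hzy⟩ := hYsurj x
    exact ⟨⟨z, hYV hz⟩, hzy⟩
  · simp only [LinearMap.comp_apply, LinearMap.rTensor_comp_apply, Submodule.coe_subtype]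
    change _ = (eps (C := C) q).rTensor C (V.subtype.rTensor C (subCoact hVs m))
    rw [rTensor_subCoact, rTensor_eps_cofree]
    exact (hgV m m.2).symm

/-- Every finitely generated comodule is a quotient of a finitely generated projective comodule. -/
theorem exists_projective_cover [IsRegularRing R] (hdim : ringKrullDim R ≤ 2)
    {F : Type w} [AddCommGroup F] [Module R F] [Comod R C F] [Module.Finite R F] :
    ∃ (n : ℕ) (V : Submodule R ((Fin n → R) ⊗[R] C)) (c : Comod R C V) (φ : V →ₗ[R] F),
      Module.Finite R V ∧ Module.Projective R V ∧ Function.Surjective φ ∧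
      Comod.coact (k := R) (A := C) ∘ₗ φ = φ.rTensor C ∘ₗ c.coact := by
  obtain ⟨n₁, q₁, X, hXfg, hXs, hXq, hXsurj⟩ := exists_step (R := R) (C := C) (F := F)
  haveI : Module.Finite R X := Module.Finite.iff_fg.mpr hXfg
  letI cP₁ := cofree (R := R) (C := C) (Fin n₁ → R)
  have hXsub : IsSubcomod (k := R) (A := C) X := isSubcomod_of_scr hXs
  letI cX := subComod hXsub
  have hsep : ∀ z : X ⊗[R] C, (∀ χ : X ⊗[R] C →ₗ[R] R, χ z = 0) → z = 0 := by
    intro z hz
    apply Module.Flat.rTensor_preserves_injective_linearMap (M := C) X.subtype X.injective_subtype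
    rw [map_zero]
    exact eq_zero_of_dual (R := R) (N := ((Fin n₁ → R) ⊗[R] C) ⊗[R] C) (X.subtype.rTensor C z)
      fun χ => hz (χ ∘ₗ X.subtype.rTensor C)
  obtain ⟨n, V, cV, φ, hVf, hVp, hφ, hcomm⟩ := exists_projective_cover_of_separated (R := R) (C := C) (X := X) hdim hsep
  refine ⟨n, V, cV, (eps (C := C) q₁ ∘ₗ X.subtype) ∘ₗ φ, hVf, hVp, ?_, LinearMap.ext fun m => ?_⟩
  · intro x
    obtain ⟨y, hy, rfl⟩ := hXsurj x
    obtain ⟨z, hz⟩ := hφ ⟨y, hy⟩
    exact ⟨z, by rw [LinearMap.comp_apply, LinearMap.comp_apply, hz]; rfl⟩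
  · simp only [LinearMap.comp_apply, LinearMap.rTensor_comp_apply, Submodule.coe_subtype]
    have hcm := LinearMap.congr_fun hcomm m
    simp only [LinearMap.comp_apply] at hcm
    rw [← hcm]
    change _ = (eps (C := C) q₁).rTensor C (X.subtype.rTensor C (subCoact hXsub (φ m)))
    rw [rTensor_subCoact, rTensor_eps_cofree]
    exact (hXq _ (φ m).2).symm

end Comod

end Groth.Agent.ComodRing
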