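import Groth.Agent.DepthLib.RegularQuotient
import Mathlib.RingTheory.Regular.Free
import Mathlib.RingTheory.LocalProperties.Projective
import Mathlib.RingTheory.DiscreteValuationRing.TFAE
import Mathlib.LinearAlgebra.FreeModule.PID
import Mathlib.RingTheory.RegularLocalRing.Defs

/-!
# Second syzygies over regular rings of dimension at most two are projective
-/

universe u v w

namespace Groth.Agent.ComodRing

open Pointwise

/-- A regular local ring whose maximal ideal is principal is a principal ideal domain. -/
theorem isPrincipalIdealRing_of_spanFinrank_le_one (S : Type u) [CommRing S] [IsRegularLocalRing S]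
    (h : (IsLocalRing.maximalIdeal S).spanFinrank ≤ 1) : IsPrincipalIdealRing S := by
  haveI := DepthLib.isDomain_of_isRegularLocalRing S
  refine ((tfae_of_isNoetherianRing_of_isLocalRing_of_isDomain (R := S)).out 0 5).mpr ?_
  rw [← IsLocalRing.spanFinrank_maximalIdeal_eq_finrank_cotangentSpace]
  exact h

/-- Kernels of maps of free modules over a regular local ring of dimension at most two are free. -/
theorem free_ker_of_regularLocal (S : Type u) [CommRing S] [IsRegularLocalRing S]
    (h : (IsLocalRing.maximalIdeal S).spanFinrank ≤ 2)
    {F : Type v} [AddCommGroup F] [Module S F] [Module.Free S F] [Module.Finite S F]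
    {G : Type w} [AddCommGroup G] [Module S G] [Module.IsTorsionFree S G] (u : F →ₗ[S] G) :
    Module.Free S (LinearMap.ker u) := by
  haveI := DepthLib.isDomain_of_isRegularLocalRing S
  by_cases h1 : (IsLocalRing.maximalIdeal S).spanFinrank ≤ 1
  · haveI := isPrincipalIdealRing_of_spanFinrank_le_one S h1
    exact Module.free_of_finite_type_torsion_free'
  · have hn : (IsLocalRing.maximalIdeal S).spanFinrank = 1 + 1 := by omega
    obtain ⟨x, hx, hx2⟩ : ∃ x ∈ IsLocalRing.maximalIdeal S, x ∉ IsLocalRing.maximalIdeal S ^ 2 := by
      by_contra hc
      push Not at hc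
      have hbot : IsLocalRing.maximalIdeal S = ⊥ := by
        refine Submodule.eq_bot_of_le_smul_of_le_jacobson_bot (IsLocalRing.maximalIdeal S) _
          (IsNoetherian.noetherian _) (fun y hy => ?_) (IsLocalRing.maximalIdeal_le_jacobson _)
        have := hc y hy
        rwa [pow_two] at this
      rw [hbot, Submodule.spanFinrank_bot] at hn
      omega
    obtain ⟨hreg, hq⟩ := DepthLib.isRegularLocalRing_quotient_singleton (n := 1) hn hx hx2
    have hx0 : x ≠ 0 := fun e => hx2 (by rw [e]; exact Ideal.zero_mem _)
    haveI := hreg
    haveI := DepthLib.isDomain_of_isRegularLocalRing (S ⧸ Ideal.span {x})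
    haveI := isPrincipalIdealRing_of_spanFinrank_le_one (S ⧸ Ideal.span {x}) hq.le
    set K := LinearMap.ker u with hK
    let Φ := LinearMap.extendScalarsOfSurjective (R := S) (S := S ⧸ Ideal.span {x})
      Ideal.Quotient.mk_surjective (QuotSMulTop.map x K.subtype)
    have hinj : Function.Injective Φ := by
      rw [injective_iff_map_eq_zero]
      intro y hy
      obtain ⟨y, rfl⟩ := Submodule.Quotient.mk_surjective _ y
      change QuotSMulTop.map x K.subtype (Submodule.Quotient.mk y) = 0 at hy
      rw [QuotSMulTop.map_apply_mk, Submodule.Quotient.mk_eq_zero,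
        Submodule.mem_smul_pointwise_iff_exists] at hy
      obtain ⟨z, -, hz⟩ := hy
      have hzK : z ∈ K := by
        have h0 : x • u z = 0 := by
          rw [← map_smul, hz]
          exact y.2
        rw [hK, LinearMap.mem_ker]
        exact (smul_eq_zero.mp h0).resolve_left hx0
      rw [Submodule.Quotient.mk_eq_zero, Submodule.mem_smul_pointwise_iff_exists]
      exact ⟨⟨z, hzK⟩, trivial, Subtype.ext hz⟩
    haveI : Module.IsTorsionFree (S ⧸ Ideal.span {x}) (QuotSMulTop x K) :=
      hinj.moduleIsTorsionFree _ (map_smul Φ)
    haveI : Module.Finite (S ⧸ Ideal.span {x}) (QuotSMulTop x K) :=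
      Module.Finite.of_restrictScalars_finite S _ _
    haveI : Module.Free (S ⧸ Ideal.span {x}) (QuotSMulTop x K) :=
      Module.free_of_finite_type_torsion_free'
    haveI : Module.FinitePresentation S K := Module.finitePresentation_of_finite S K
    exact (Module.free_quotSMulTop_iff_free S K
      (IsLocalRing.maximalIdeal_le_jacobson _ hx)
      (smul_right_injective K hx0)).mp inferInstance

/-- Kernels of maps of finite projective modules over a regular ring of dimension at most two are
projective. -/
theorem projective_ker_of_regular (R : Type u) [CommRing R] [IsRegularRing R]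
    (hdim : ringKrullDim R ≤ 2)
    {F : Type v} [AddCommGroup F] [Module R F] [Module.Projective R F] [Module.Finite R F]
    {G : Type w} [AddCommGroup G] [Module R G] [Module.Projective R G] [Module.Finite R G]
    (u : F →ₗ[R] G) : Module.Projective R (LinearMap.ker u) := by
  haveI : Module.FinitePresentation R (LinearMap.ker u) := Module.finitePresentation_of_finite R _
  refine Module.projective_of_localization_maximal' (fun P _ => Localization.AtPrime P)
    (fun P _ => LinearMap.ker ((IsLocalizedModule.map P.primeCompl
      (LocalizedModule.mkLinearMap P.primeCompl F) (LocalizedModule.mkLinearMap P.primeCompl G)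
      u).extendScalarsOfIsLocalization P.primeCompl (Localization.AtPrime P)))
    (f := fun P _ =>
      ((LinearEquiv.ofEq _ _ (LinearMap.localized'_ker_eq_ker_localizedMap (Localization.AtPrime P)
        P.primeCompl (LocalizedModule.mkLinearMap P.primeCompl F)
        (LocalizedModule.mkLinearMap P.primeCompl G) u)).restrictScalars R).toLinearMap ∘ₗ
        Submodule.toLocalized' (Localization.AtPrime P) P.primeCompl
          (LocalizedModule.mkLinearMap P.primeCompl F) (LinearMap.ker u))
    (inst := fun P _ => ?_) ?_
  · exact IsLocalizedModule.of_linearEquiv P.primeCompl _ _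
  · intro P hP
    haveI : Module.Projective (Localization.AtPrime P) (LocalizedModule P.primeCompl F) :=
      Module.projective_of_isLocalizedModule P.primeCompl (LocalizedModule.mkLinearMap P.primeCompl F)
    haveI : Module.Finite (Localization.AtPrime P) (LocalizedModule P.primeCompl F) :=
      Module.Finite.of_isLocalizedModule P.primeCompl (LocalizedModule.mkLinearMap P.primeCompl F)
    haveI : Module.Projective (Localization.AtPrime P) (LocalizedModule P.primeCompl G) :=
      Module.projective_of_isLocalizedModule P.primeCompl (LocalizedModule.mkLinearMap P.primeCompl G)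
    haveI : Module.Free (Localization.AtPrime P) (LocalizedModule P.primeCompl F) :=
      Module.free_of_flat_of_isLocalRing
    haveI := DepthLib.isDomain_of_isRegularLocalRing (Localization.AtPrime P)
    have hle : (IsLocalRing.maximalIdeal (Localization.AtPrime P)).spanFinrank ≤ 2 := by
      have h := (IsRegularLocalRing.spanFinrank_maximalIdeal (R := Localization.AtPrime P)).le.trans
        (((IsLocalization.AtPrime.ringKrullDim_eq_height P (Localization.AtPrime P)).le.trans
          (Ideal.height_le_ringKrullDim_of_ne_top hP.ne_top)).trans hdim)
      exact_mod_cast h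
    haveI := free_ker_of_regularLocal (Localization.AtPrime P) hle
      ((IsLocalizedModule.map P.primeCompl
        (LocalizedModule.mkLinearMap P.primeCompl F) (LocalizedModule.mkLinearMap P.primeCompl G)
        u).extendScalarsOfIsLocalization P.primeCompl (Localization.AtPrime P))
    exact Module.Projective.of_free

end Groth.Agent.ComodRing
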